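import Groth.Agent.Lib.QuasiFlat.Basic
import Mathlib.AlgebraicGeometry.ValuativeCriterion

/-!
# Valuative squares reaching a specialisation
-/

universe u

open CategoryTheory AlgebraicGeometry IsLocalRing

namespace Groth.Agent.ValSq12

set_option backward.isDefEq.respectTransparency.types false in
/-- A valuation ring in the residue field of `x` realising a specialisation of `f x`. -/
theorem exists_square {X Y : Scheme.{u}} (f : X ⟶ Y) {x : X} {y : Y} (h : f x ⤳ y) :
    ∃ (A : ValuationSubring (X.residueField x)) (i₂ : Spec (CommRingCat.of A) ⟶ Y),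
      X.fromSpecResidueField x ≫ f =
        Spec.map (CommRingCat.ofHom (algebraMap A (X.residueField x))) ≫ i₂ ∧
      i₂ (closedPoint A) = y := by
  let g : Y.presheaf.stalk y ⟶ X.residueField x :=
    Y.presheaf.stalkSpecializes h ≫ f.stalkMap x ≫ X.residue x
  obtain ⟨A, hA, hA_local⟩ := exists_factor_valuationRing g.hom
  let g' : Y.presheaf.stalk y ⟶ .of A := CommRingCat.ofHom (g.hom.codRestrict _ hA)
  refine ⟨A, Spec.map g' ≫ Y.fromSpecStalk y, ?_, ?_⟩
  · rw [Scheme.fromSpecResidueField, Category.assoc, ← Scheme.SpecMap_stalkMap_fromSpecStalk,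
      ← Scheme.SpecMap_stalkSpecializes_fromSpecStalk h]
    simp_rw [← Spec.map_comp_assoc]
    rfl
  · rw [Scheme.Hom.comp_apply]
    have : Spec.map g' (closedPoint A) = closedPoint (Y.presheaf.stalk y) :=
      comap_closedPoint (S := A) (g.hom.codRestrict A.toSubring hA)
    rw [this, Y.fromSpecStalk_closedPoint]

end Groth.Agent.ValSq12
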