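import Groth.Agent.Lib.ValSq12.Dense
import Mathlib.RingTheory.Flat.TorsionFree
import Mathlib.RingTheory.Flat.FaithfullyFlat.Algebra
import Mathlib.RingTheory.Valuation.ValuationRing

/-!
# Valuation rings through chains of specialisations
-/

universe u

set_option linter.style.haveILetI false
set_option linter.unusedSectionVars false
set_option backward.isDefEq.respectTransparency.types false

open CategoryTheory AlgebraicGeometry IsLocalRing

namespace Groth.Agent.ValSq12

/-- Composition of a valuation ring with a valuation on its residue field, geometrically. -/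
theorem exists_composite {T : Scheme.{u}} {L : Type u} [Field L] (A : ValuationSubring L)
    (a : Spec (CommRingCat.of A) ⟶ T) {t : T} (h : a (closedPoint A) ⤳ t) :
    ∃ (B : ValuationSubring L) (hBA : B ≤ A) (b : Spec (CommRingCat.of B) ⟶ T),
      Spec.map (CommRingCat.ofHom (ValuationSubring.inclusion B A hBA)) ≫ b = a ∧
      b (closedPoint B) = t := by
  obtain ⟨α, hα⟩ := exists_fromSpecStalk_fac (R := CommRingCat.of A) a h
  obtain ⟨R1, hR1, hR1l⟩ := exists_factor_valuationRing ((residue A).comp α.hom)
  let Bset : Subring L := ((R1.toSubring.comap (residue A)).map A.subtype)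
  have hBmem : ∀ z, z ∈ Bset ↔ ∃ hz : z ∈ A, residue A ⟨z, hz⟩ ∈ R1 := by
    intro z
    constructor
    · rintro ⟨⟨z, hz⟩, hz', rfl⟩
      exact ⟨hz, hz'⟩
    · rintro ⟨hz, hz'⟩
      exact ⟨⟨z, hz⟩, hz', rfl⟩
  let B : ValuationSubring L :=
    { Bset with
      mem_or_inv_mem' := fun z => by
        show z ∈ Bset ∨ z⁻¹ ∈ Bset
        rw [hBmem, hBmem]
        by_cases hz0 : z = 0
        · subst hz0
          exact Or.inl ⟨A.zero_mem, by
            rw [show (⟨0, A.zero_mem⟩ : A) = 0 from rfl, map_zero]; exact R1.zero_mem⟩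
        by_cases hzA : z ∈ A
        · by_cases hr : residue A ⟨z, hzA⟩ ∈ R1
          · exact Or.inl ⟨hzA, hr⟩
          · have hne : residue A ⟨z, hzA⟩ ≠ 0 := fun h0 => hr (h0 ▸ R1.zero_mem)
            obtain ⟨⟨w, hw⟩, hw'⟩ := ((residue_ne_zero_iff_isUnit _).1 hne).exists_right_inv
            have hwz : w = z⁻¹ := eq_inv_of_mul_eq_one_right (congrArg Subtype.val hw')
            subst hwz
            refine Or.inr ⟨hw, ?_⟩
            have h1 : residue A ⟨z, hzA⟩ * residue A ⟨z⁻¹, hw⟩ = 1 := by
              rw [← map_mul, hw', map_one]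
            rw [eq_inv_of_mul_eq_one_right h1]
            exact (R1.mem_or_inv_mem _).resolve_left hr
        · have hzi : z⁻¹ ∈ A := (A.mem_or_inv_mem z).resolve_left hzA
          refine Or.inr ⟨hzi, ?_⟩
          have : residue A ⟨z⁻¹, hzi⟩ = 0 := by
            rw [residue_eq_zero_iff, IsLocalRing.mem_maximalIdeal, mem_nonunits_iff]
            intro hu'
            obtain ⟨⟨w, hw⟩, hw'⟩ := hu'.exists_right_inv
            have : w = z :=
              (eq_inv_of_mul_eq_one_right (congrArg Subtype.val hw')).trans (inv_inv z)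
            exact hzA (this ▸ hw)
          rw [this]
          exact R1.zero_mem }
  have hBA : B ≤ A := fun z hz => ((hBmem z).1 hz).1
  let rB : B →+* R1 := ((residue A).comp (ValuationSubring.inclusion B A hBA)).codRestrict
    R1.toSubring fun b => ((hBmem b).1 b.2).2
  let αB : T.presheaf.stalk t ⟶ CommRingCat.of B :=
    CommRingCat.ofHom ((A.subtype.comp α.hom).codRestrict B.toSubring fun r =>
      (hBmem _).2 ⟨(α.hom r).2, hR1 r⟩)
  have hloc : IsLocalHom αB.hom := by
    refine ⟨fun r hr => hR1l.map_nonunit r ?_⟩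
    exact (hr.map rB : IsUnit (rB (αB.hom r)))
  refine ⟨B, hBA, Spec.map αB ≫ T.fromSpecStalk t, ?_, ?_⟩
  · rw [← Category.assoc, ← Spec.map_comp]
    exact hα
  · rw [Scheme.Hom.comp_apply]
    have : Spec.map αB (closedPoint B) = closedPoint (T.presheaf.stalk t) :=
      @comap_closedPoint _ _ _ B _ _ αB.hom hloc
    rw [this, T.fromSpecStalk_closedPoint]

theorem spec_generic_of_field {V K : Type u} [CommRing V] [IsDomain V] [Field K] (φ : V →+* K)
    (hφ : Function.Injective φ) (z : Spec (CommRingCat.of K)) :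
    Spec.map (CommRingCat.ofHom φ) z = (⟨⊥, Ideal.isPrime_bot⟩ : PrimeSpectrum V) := by
  apply PrimeSpectrum.ext
  show z.asIdeal.comap φ = ⊥
  rw [(Ideal.eq_bot_or_top z.asIdeal).resolve_right z.isPrime.ne_top, ← RingHom.ker_eq_comap_bot,
    (RingHom.injective_iff_ker_eq_bot φ).1 hφ]

/-- A chain of specialisations is the image of a chain in the spectrum of a valuation ring. -/
theorem exists_chain {T : Scheme.{u}} : ∀ (n : ℕ) (y : Fin (n + 1) → T),
    (∀ i j : Fin (n + 1), i ≤ j → y i ⤳ y j) →
    ∃ (L : Type u) (_ : Field L) (B : ValuationSubring L) (b : Spec (CommRingCat.of B) ⟶ T)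
      (p : Fin (n + 1) → Spec (CommRingCat.of B)),
      (∀ i j : Fin (n + 1), i ≤ j → p i ⤳ p j) ∧ (∀ i, b (p i) = y i) ∧
      b (closedPoint B) = y (Fin.last n)
  | 0, y, _ => by
    obtain ⟨B, b, -, hb⟩ := exists_square (𝟙 T) (x := y 0) (y := y 0) specializes_rfl
    refine ⟨_, inferInstance, B, b, fun _ => closedPoint B, fun _ _ _ => specializes_rfl,
      fun i => ?_, hb⟩
    rw [show i = 0 from Fin.ext (by omega)]
    exact hb
  | n + 1, y, hy => by
    obtain ⟨L, _, A, a, p, hp, hpy, ha⟩ := exists_chain n (y ∘ Fin.castSucc)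
      fun i j hij => hy _ _ (Fin.castSucc_le_castSucc_iff.2 hij)
    obtain ⟨B, hBA, b, hb, hbt⟩ := exists_composite A a (t := y (Fin.last (n + 1)))
      (by rw [ha]; exact hy _ _ (Fin.le_last _))
    let j := Spec.map (CommRingCat.ofHom (ValuationSubring.inclusion B A hBA))
    refine ⟨L, _, B, b, Fin.snoc (fun i => j (p i)) (closedPoint B), ?_, ?_, hbt⟩
    · intro i k hik
      cases k using Fin.lastCases with
      | last => rw [Fin.snoc_last]; exact specializes_closedPoint _
      | cast k =>
        cases i using Fin.lastCases with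
        | last => exact absurd (lt_of_le_of_lt hik (Fin.castSucc_lt_last k)) (lt_irrefl _)
        | cast i =>
          rw [Fin.snoc_castSucc, Fin.snoc_castSucc]
          exact (hp i k (Fin.castSucc_le_castSucc_iff.1 hik)).map j.continuous
    · intro i
      cases i using Fin.lastCases with
      | last => rw [Fin.snoc_last]; exact hbt
      | cast i =>
        rw [Fin.snoc_castSucc, ← Scheme.Hom.comp_apply, hb]
        exact hpy i

/-- A specialisation is realised by the spectrum of a valuation ring. -/
theorem exists_valRing_pair {P : Scheme.{u}} {x' x : P} (h : x' ⤳ x) :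
    ∃ (W : Type u) (_ : CommRing W) (_ : IsDomain W) (_ : ValuationRing W)
      (g : Spec (CommRingCat.of W) ⟶ P),
      g (⟨⊥, Ideal.isPrime_bot⟩ : PrimeSpectrum W) = x' ∧ g (closedPoint W) = x := by
  obtain ⟨A, g, hg, hgx⟩ := exists_square (𝟙 P) (x := x') (y := x) h
  refine ⟨A, inferInstance, inferInstance, inferInstance, g, ?_, hgx⟩
  rw [Category.comp_id] at hg
  rw [← spec_generic_of_field (algebraMap A (P.residueField x')) (IsFractionRing.injective A _)
    (closedPoint (P.residueField x')), ← Scheme.Hom.comp_apply, ← hg]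
  exact Scheme.fromSpecResidueField_apply _ _

variable {V W : Type u} [CommRing V] [IsDomain V] [ValuationRing V] [CommRing W] [IsDomain W]

theorem flat_of_injective {M : Type u} [CommRing M] [IsDomain M] [Algebra V M]
    (h : Function.Injective (algebraMap V M)) : Module.Flat V M := by
  rw [Module.Flat.flat_iff_torsion_eq_bot_of_isBezout, eq_bot_iff]
  rintro m ⟨⟨r, hr⟩, hm⟩
  rw [Submonoid.mk_smul, Algebra.smul_def, mul_eq_zero] at hm
  refine hm.resolve_left fun h0 => ?_
  exact nonZeroDivisors.ne_zero hr (h (h0.trans (map_zero _).symm))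

variable [ValuationRing W]

/-- A map of spectra of valuation rings preserving closed and generic points is surjective. -/
theorem surjective_of_closed_generic (m : Spec (CommRingCat.of W) ⟶ Spec (CommRingCat.of V))
    (hc : m (closedPoint W) = closedPoint V)
    (hg : m (⟨⊥, Ideal.isPrime_bot⟩ : PrimeSpectrum W) = (⟨⊥, Ideal.isPrime_bot⟩ : PrimeSpectrum V)) :
    Surjective m := by
  obtain ⟨φ, rfl⟩ := Spec.map_surjective m
  have hinj : Function.Injective φ.hom := by
    rw [RingHom.injective_iff_ker_eq_bot, RingHom.ker_eq_comap_bot]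
    exact congrArg PrimeSpectrum.asIdeal hg
  have hmax : (maximalIdeal W).comap φ.hom = maximalIdeal V := congrArg PrimeSpectrum.asIdeal hc
  algebraize [φ.hom]
  haveI : IsLocalHom (algebraMap V W) := ((local_hom_TFAE _).out 4 0).1 hmax
  haveI : Module.Flat V W := flat_of_injective hinj
  haveI : Module.FaithfullyFlat V W := Module.FaithfullyFlat.of_flat_of_isLocalHom
  exact ⟨PrimeSpectrum.comap_surjective_of_faithfullyFlat⟩

/-- Points of the spectrum of a valuation ring are totally ordered. -/
theorem specializes_total (p q : Spec (CommRingCat.of V)) : p ⤳ q ∨ q ⤳ p := by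
  haveI : ValuationRing (CommRingCat.of V) := ‹ValuationRing V›
  rcases PreValuationRing.iff_ideal_total.1 (inferInstanceAs (PreValuationRing V)) |>.total
    (p.asIdeal : Ideal V) (q.asIdeal : Ideal V) with h | h
  · exact Or.inl ((PrimeSpectrum.le_iff_specializes p q).1 h)
  · exact Or.inr ((PrimeSpectrum.le_iff_specializes q p).1 h)

theorem eq_generic_of_specializes {p : Spec (CommRingCat.of V)}
    (h : p ⤳ (⟨⊥, Ideal.isPrime_bot⟩ : PrimeSpectrum V)) :
    p = (⟨⊥, Ideal.isPrime_bot⟩ : PrimeSpectrum V) :=
  PrimeSpectrum.ext (le_bot_iff.1 ((PrimeSpectrum.le_iff_specializes p _).2 h))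

theorem eq_closed_of_specializes {p : Spec (CommRingCat.of V)} (h : closedPoint V ⤳ p) :
    p = closedPoint V :=
  PrimeSpectrum.ext (le_antisymm (le_maximalIdeal p.isPrime.ne_top)
    ((PrimeSpectrum.le_iff_specializes (closedPoint V) p).2 h))

end Groth.Agent.ValSq12
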