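import Groth.Agent.Lib.ValSq12.Basic
import Mathlib.RingTheory.Valuation.ValuationSubring
import Mathlib.AlgebraicGeometry.Morphisms.Separated

/-!
# The valuative criterion tested on a dense family of points
-/

universe u

set_option linter.style.haveILetI false
set_option backward.isDefEq.respectTransparency.types false

open CategoryTheory CategoryTheory.Limits AlgebraicGeometry IsLocalRing

namespace Groth.Agent.ValSq12

/-- A morphism from the spectrum of a local ring factors through the stalk at any point it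
specialises to. -/
theorem exists_fromSpecStalk_fac {T : Scheme.{u}} {R : CommRingCat.{u}} [IsLocalRing R]
    (m : Spec R ⟶ T) {t : T} (h : m (closedPoint R) ⤳ t) :
    ∃ α : T.presheaf.stalk t ⟶ R, Spec.map α ≫ T.fromSpecStalk t = m := by
  refine ⟨T.presheaf.stalkSpecializes h ≫ Scheme.stalkClosedPointTo m, ?_⟩
  rw [Spec.map_comp, Category.assoc, Scheme.SpecMap_stalkSpecializes_fromSpecStalk h,
    Scheme.Spec_stalkClosedPointTo_fromSpecStalk]

theorem hom_ext_fromSpecStalk {T : Scheme.{u}} {R : CommRingCat.{u}} {t : T}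
    {α β : T.presheaf.stalk t ⟶ R}
    (h : Spec.map α ≫ T.fromSpecStalk t = Spec.map β ≫ T.fromSpecStalk t) : α = β :=
  Spec.map_injective ((cancel_mono (T.fromSpecStalk t)).1 h)

theorem specializes_of_range_fromSpecStalk {T : Scheme.{u}} {R : CommRingCat.{u}} {t : T}
    (α : T.presheaf.stalk t ⟶ R) (z : Spec R) : (Spec.map α ≫ T.fromSpecStalk t) z ⤳ t := by
  rw [Scheme.Hom.comp_apply]
  have := (specializes_closedPoint (R := T.presheaf.stalk t) (Spec.map α z)).map
    (T.fromSpecStalk t).continuous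
  rwa [Scheme.fromSpecStalk_closedPoint] at this

variable {U X S : Scheme.{u}} (f : X ⟶ S) (h : U ⟶ X)

theorem exists_lift_of_dense [QuasiCompact h] (hd : DenseRange h.base)
    (H : ∀ sq : ValuativeCommSq f, (∃ i : Spec (.of sq.K) ⟶ U, i ≫ h = sq.i₁) →
      Nonempty (Unique sq.commSq.LiftStruct))
    (sq : ValuativeCommSq f) : sq.commSq.HasLift := by
  obtain ⟨R, K, i₁, i₂, ⟨w⟩⟩ := sq
  let x : X := i₁ (closedPoint K)
  let φ : X.residueField x ⟶ CommRingCat.of K := Scheme.descResidueField (Scheme.stalkClosedPointTo i₁)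
  have hφ : Spec.map φ ≫ X.fromSpecResidueField x = i₁ :=
    Scheme.descResidueField_stalkClosedPointTo_fromSpecResidueField K X i₁
  obtain ⟨u, hu⟩ := QF.exists_specializes_of_mem_closure h (hd x)
  obtain ⟨A, a, ha, hax⟩ := exists_square h hu
  -- the residue field of `A`
  let k := IsLocalRing.ResidueField A
  let rA : CommRingCat.of A ⟶ CommRingCat.of k := CommRingCat.ofHom (residue A)
  let ak : Spec (CommRingCat.of k) ⟶ X := Spec.map rA ≫ a
  have hak : ak (closedPoint k) = x := by
    rw [Scheme.Hom.comp_apply]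
    have : Spec.map rA (closedPoint k) = closedPoint A := comap_closedPoint (S := k) (residue A)
    rw [this, hax]
  obtain ⟨ψ, hψ⟩ : ∃ ψ : X.residueField x ⟶ CommRingCat.of k,
      Spec.map ψ ≫ X.fromSpecResidueField x = ak := by
    rw [← hak]
    exact ⟨_, Scheme.descResidueField_stalkClosedPointTo_fromSpecResidueField k X ak⟩
  -- the valuation rings
  let VR : ValuationSubring K :=
    { (algebraMap R K).range with
      mem_or_inv_mem' := fun z => by
        rcases ValuationRing.isInteger_or_isInteger R z with ⟨r, hr⟩ | ⟨r, hr⟩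
        · exact Or.inl ⟨r, hr⟩
        · exact Or.inr ⟨r, hr⟩ }
  let R0 : ValuationSubring (X.residueField x) := VR.comap φ.hom
  obtain ⟨R1, hR1, hR1l⟩ := exists_factor_valuationRing (ψ.hom.comp R0.subtype)
  have hiff : ∀ z, ψ.hom z ∈ R1 → φ.hom z ∈ VR := by
    intro z hz
    by_contra hz'
    have hne : z ≠ 0 := by
      rintro rfl
      exact hz' (by rw [map_zero]; exact VR.zero_mem)
    have hzi : z⁻¹ ∈ R0 := (R0.mem_or_inv_mem z).resolve_left hz'
    have hu' : IsUnit ((ψ.hom.comp R0.subtype).codRestrict R1.toSubring hR1 ⟨z⁻¹, hzi⟩) := by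
      refine IsUnit.of_mul_eq_one ⟨ψ.hom z, hz⟩ (Subtype.ext ?_)
      show ψ.hom z⁻¹ * ψ.hom z = 1
      rw [← map_mul, inv_mul_cancel₀ hne, map_one]
    obtain ⟨⟨v, hv⟩, hv'⟩ := (hR1l.map_nonunit _ hu').exists_right_inv
    have hv'' : z⁻¹ * v = 1 := congrArg Subtype.val hv'
    have : v = z := by
      rw [← one_mul v, ← mul_inv_cancel₀ hne, mul_assoc, hv'', mul_one]
    exact hz' (this ▸ hv)
  -- the composite valuation ring
  let Kres := X.residueField x
  let Bset : Subring (U.residueField u) :=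
    ((R1.toSubring.comap (residue A)).map A.subtype)
  have hBmem : ∀ z, z ∈ Bset ↔ ∃ hz : z ∈ A, residue A ⟨z, hz⟩ ∈ R1 := by
    intro z
    constructor
    · rintro ⟨⟨z, hz⟩, hz', rfl⟩
      exact ⟨hz, hz'⟩
    · rintro ⟨hz, hz'⟩
      exact ⟨⟨z, hz⟩, hz', rfl⟩
  let B : ValuationSubring (U.residueField u) :=
    { Bset with
      mem_or_inv_mem' := fun z => by
        show z ∈ Bset ∨ z⁻¹ ∈ Bset
        rw [hBmem, hBmem]
        by_cases hz0 : z = 0
        · subst hz0
          exact Or.inl ⟨A.zero_mem, by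
            rw [show (⟨0, A.zero_mem⟩ : A) = 0 from rfl, map_zero]; exact R1.zero_mem⟩
        by_cases hzA : z ∈ A
        · by_cases hr : residue A ⟨z, hzA⟩ ∈ R1
          · exact Or.inl ⟨hzA, hr⟩
          · have hne : residue A ⟨z, hzA⟩ ≠ 0 := fun h0 => hr (h0 ▸ R1.zero_mem)
            obtain ⟨⟨w, hw⟩, hw'⟩ := ((residue_ne_zero_iff_isUnit _).1 hne).exists_right_inv
            have hwz : w = z⁻¹ := eq_inv_of_mul_eq_one_right (congrArg Subtype.val hw')
            subst hwz
            refine Or.inr ⟨hw, ?_⟩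
            have h1 : residue A ⟨z, hzA⟩ * residue A ⟨z⁻¹, hw⟩ = 1 := by
              rw [← map_mul, hw', map_one]
            rw [eq_inv_of_mul_eq_one_right h1]
            exact (R1.mem_or_inv_mem _).resolve_left hr
        · have hzi : z⁻¹ ∈ A := (A.mem_or_inv_mem z).resolve_left hzA
          refine Or.inr ⟨hzi, ?_⟩
          have : residue A ⟨z⁻¹, hzi⟩ = 0 := by
            rw [residue_eq_zero_iff, IsLocalRing.mem_maximalIdeal, mem_nonunits_iff]
            intro hu'
            obtain ⟨⟨w, hw⟩, hw'⟩ := hu'.exists_right_inv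
            have : w = z :=
              (eq_inv_of_mul_eq_one_right (congrArg Subtype.val hw')).trans (inv_inv z)
            exact hzA (this ▸ hw)
          rw [this]
          exact R1.zero_mem }
  have hBA : ∀ z ∈ B, z ∈ A := fun z hz => ((hBmem z).1 hz).1
  let jBA : CommRingCat.of B ⟶ CommRingCat.of A :=
    CommRingCat.ofHom ((B.subtype).codRestrict A.toSubring fun z => hBA z z.2)
  have hjres : ∀ b : B, residue A (jBA.hom b) ∈ R1 := fun b => ((hBmem b).1 b.2).2
  -- the map to the base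
  let s : S := i₂ (closedPoint R)
  obtain ⟨ρ, hρ⟩ := exists_fromSpecStalk_fac (R := CommRingCat.of R) i₂ (t := s) specializes_rfl
  have hfx : f x ⤳ s := by
    rw [← Scheme.Hom.comp_apply, w, Scheme.Hom.comp_apply]
    exact (specializes_closedPoint _).map i₂.continuous
  let g : S.presheaf.stalk s ⟶ X.residueField x :=
    S.presheaf.stalkSpecializes hfx ≫ f.stalkMap x ≫ X.residue x
  have hg : Spec.map g ≫ S.fromSpecStalk s = X.fromSpecResidueField x ≫ f := by
    rw [Scheme.fromSpecResidueField, Category.assoc, ← Scheme.SpecMap_stalkMap_fromSpecStalk,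
      ← Scheme.SpecMap_stalkSpecializes_fromSpecStalk hfx]
    simp_rw [← Spec.map_comp_assoc]
    rfl
  have hgρ : g ≫ φ = ρ ≫ CommRingCat.ofHom (algebraMap R K) := by
    refine hom_ext_fromSpecStalk ?_
    rw [Spec.map_comp, Category.assoc, hg, ← Category.assoc, hφ, w, Spec.map_comp, Category.assoc, hρ]
  obtain ⟨α, hα⟩ := exists_fromSpecStalk_fac (R := CommRingCat.of A) (a ≫ f) (t := s)
    (by rw [Scheme.Hom.comp_apply, hax]; exact hfx)
  have hαψ : α ≫ rA = g ≫ ψ := by
    refine hom_ext_fromSpecStalk ?_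
    rw [Spec.map_comp, Category.assoc, hα, Spec.map_comp, Category.assoc, hg, ← Category.assoc (Spec.map ψ),
      hψ, Category.assoc]
  let αB : S.presheaf.stalk s ⟶ CommRingCat.of B :=
    CommRingCat.ofHom ((A.subtype.comp α.hom).codRestrict B.toSubring fun t => by
      refine (hBmem _).2 ⟨(α.hom t).2, ?_⟩
      have h1 : residue A (α.hom t) = ψ.hom (g.hom t) :=
        congrArg (fun m : S.presheaf.stalk s ⟶ CommRingCat.of k => m.hom t) hαψ
      show residue A (α.hom t) ∈ R1
      rw [h1]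
      exact hR1 ⟨g.hom t, ⟨ρ.hom t, (congrArg (fun m : S.presheaf.stalk s ⟶ CommRingCat.of K => m.hom t)
        hgρ).symm⟩⟩)
  have hαB : αB ≫ jBA = α := rfl
  let eA := CommRingCat.ofHom (algebraMap A (U.residueField u))
  let eB := CommRingCat.ofHom (algebraMap B (U.residueField u))
  have hje : jBA ≫ eA = eB := rfl
  have w1 : (U.fromSpecResidueField u ≫ h) ≫ f =
      Spec.map eB ≫ Spec.map αB ≫ S.fromSpecStalk s := by
    rw [ha, Category.assoc, ← hα, ← hαB, ← hje]
    simp only [Spec.map_comp, Category.assoc]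
    rfl
  have hlift := H { R := B, K := U.residueField u, i₁ := U.fromSpecResidueField u ≫ h,
                    i₂ := Spec.map αB ≫ S.fromSpecStalk s, commSq := ⟨w1⟩ } ⟨_, rfl⟩
  obtain ⟨⟨⟨l⟩, -⟩⟩ := hlift
  obtain ⟨l, hl₁, hl₂⟩ := l
  have w2 : (U.fromSpecResidueField u ≫ h) ≫ f = Spec.map eA ≫ a ≫ f := by
    rw [ha, Category.assoc]
  have huniq := H { R := A, K := U.residueField u, i₁ := U.fromSpecResidueField u ≫ h,
                    i₂ := a ≫ f, commSq := ⟨w2⟩ } ⟨_, rfl⟩
  have hla : Spec.map jBA ≫ l = a := by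
    obtain ⟨hu2⟩ := huniq
    haveI := hu2
    refine congrArg CommSq.LiftStruct.l (Subsingleton.elim
      (CommSq.LiftStruct.mk (sq := (⟨w2⟩ : CommSq _ (Spec.map eA) f _)) (Spec.map jBA ≫ l) ?_ ?_)
      (CommSq.LiftStruct.mk (sq := (⟨w2⟩ : CommSq _ (Spec.map eA) f _)) a ha.symm rfl))
    · rw [← Category.assoc, ← Spec.map_comp, hje]; exact hl₁
    · rw [Category.assoc]
      refine (congrArg (Spec.map jBA ≫ ·) hl₂).trans ?_
      rw [← Category.assoc, ← Spec.map_comp, hαB, hα]
  -- the lift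
  let x₁ : X := l (closedPoint B)
  obtain ⟨β, hβ⟩ := exists_fromSpecStalk_fac (R := CommRingCat.of B) l (t := x₁) specializes_rfl
  have hxx₁ : x ⤳ x₁ := by
    rw [← hax, ← hla, Scheme.Hom.comp_apply]
    exact (specializes_closedPoint _).map l.continuous
  let γ : X.presheaf.stalk x₁ ⟶ X.residueField x := X.presheaf.stalkSpecializes hxx₁ ≫ X.residue x
  have hγ : Spec.map γ ≫ X.fromSpecStalk x₁ = X.fromSpecResidueField x := by
    rw [Spec.map_comp, Category.assoc, Scheme.SpecMap_stalkSpecializes_fromSpecStalk hxx₁]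
    rfl
  have hγψ : γ ≫ ψ = β ≫ jBA ≫ rA := by
    refine hom_ext_fromSpecStalk ?_
    rw [Spec.map_comp, Category.assoc, hγ, hψ]
    simp only [Spec.map_comp, Category.assoc, hβ, hla]
    rfl
  have hδmem : ∀ t, ∃ r, algebraMap R K r = φ.hom (γ.hom t) := fun t => by
    refine hiff _ ?_
    rw [show ψ.hom (γ.hom t) = residue A (jBA.hom (β.hom t)) from
      congrArg (fun m : X.presheaf.stalk x₁ ⟶ CommRingCat.of k => m.hom t) hγψ]
    exact hjres _
  let eR : R ≃+* VR :=
    (RingEquiv.ofBijective (algebraMap R K).rangeRestrict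
      ⟨fun p q hpq => IsFractionRing.injective R K (congrArg Subtype.val hpq),
        (algebraMap R K).rangeRestrict_surjective⟩)
  let δ : X.presheaf.stalk x₁ ⟶ CommRingCat.of R :=
    CommRingCat.ofHom (eR.symm.toRingHom.comp ((φ.hom.comp γ.hom).codRestrict VR.toSubring hδmem))
  have hδ : δ ≫ CommRingCat.ofHom (algebraMap R K) = γ ≫ φ := by
    ext t
    exact congrArg Subtype.val (eR.apply_symm_apply ⟨φ.hom (γ.hom t), hδmem t⟩)
  have hfac : Spec.map (CommRingCat.ofHom (algebraMap R K)) ≫ Spec.map δ ≫ X.fromSpecStalk x₁ = i₁ := by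
    rw [← Category.assoc, ← Spec.map_comp, hδ, Spec.map_comp, Category.assoc, hγ, hφ]
  have hfx₁ : f x₁ ⤳ s := by
    rw [← Scheme.Hom.comp_apply, hl₂]
    exact specializes_of_range_fromSpecStalk αB _
  obtain ⟨η, hη⟩ : ∃ η : S.presheaf.stalk s ⟶ X.presheaf.stalk x₁,
      Spec.map η ≫ S.fromSpecStalk s = X.fromSpecStalk x₁ ≫ f := by
    refine ⟨S.presheaf.stalkSpecializes hfx₁ ≫ f.stalkMap x₁, ?_⟩
    rw [Spec.map_comp, Category.assoc, Scheme.SpecMap_stalkSpecializes_fromSpecStalk hfx₁,
      Scheme.SpecMap_stalkMap_fromSpecStalk]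
  refine ⟨⟨⟨Spec.map δ ≫ X.fromSpecStalk x₁, hfac, ?_⟩⟩⟩
  refine Eq.trans ?_ hρ
  rw [Category.assoc, ← hη, ← Category.assoc, ← Spec.map_comp]
  congr 2
  have h1 : (η ≫ δ) ≫ CommRingCat.ofHom (algebraMap R K) = ρ ≫ CommRingCat.ofHom (algebraMap R K) := by
    refine hom_ext_fromSpecStalk ?_
    simp only [Spec.map_comp, Category.assoc, hη, hρ]
    rw [reassoc_of% hfac, w]
  ext t
  exact IsFractionRing.injective R K
    (congrArg (fun m : S.presheaf.stalk s ⟶ CommRingCat.of K => m.hom t) h1)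

end Groth.Agent.ValSq12
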